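import Groth.Agent.RhoVanLib.Main
import Groth.Agent.FlatStage.Smooth
import Groth.Agent.OmegaAffLib.Ideal
import Groth.Agent.RelDivLib.BaseChange
import Groth.Agent.HilbCurveLib.Scheme
import Groth.Agent.S1702
import Groth.Prelude.Def_FGA

/-!
Ideals as modules: vanishing of pullbacks; multiples of a relative divisor.
-/

set_option autoImplicit false
set_option backward.isDefEq.respectTransparency false
set_option backward.defeqAttrib.useBackward true
set_option linter.style.haveILetI false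

universe u

open CategoryTheory CategoryTheory.Limits AlgebraicGeometry TopologicalSpace Opposite

noncomputable section

namespace Groth.Agent.DivExt

theorem appLE_congr_hom {X Y : Scheme.{u}} {f g : X ⟶ Y} (h : f = g) (U : Y.Opens) (V : X.Opens)
    (e : V ≤ f ⁻¹ᵁ U) (e' : V ≤ g ⁻¹ᵁ U) : f.appLE U V e = g.appLE U V e' := by subst h; rfl

theorem appLE_comp_apply {X Y Z : Scheme.{u}} (f : X ⟶ Y) (g : Y ⟶ Z) (U : Z.Opens) (V : Y.Opens)
    (W : X.Opens) (e₁ : V ≤ g ⁻¹ᵁ U) (e₂ : W ≤ f ⁻¹ᵁ V) (z : Γ(Z, U)) :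
    (f ≫ g).appLE U W (e₂.trans ((Opens.map f.base).map (homOfLE e₁)).le) z =
      f.appLE V W e₂ (g.appLE U V e₁ z) :=
  congr(($(Scheme.Hom.appLE_comp_appLE f g U V W e₁ e₂)).hom z).symm

/-- The pullback of the inclusion of an ideal vanishes iff the morphism factors through the closed subscheme. -/
theorem pullback_idealι_eq_zero_iff {D D' : Scheme.{u}} (h : D' ⟶ D) (J : D.IdealSheafData) :
    (Scheme.Modules.pullback h).map (ClSub.idealModι J) = 0 ↔ J ≤ h.ker := by
  let adj := Scheme.Modules.pullbackPushforwardAdjunction h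
  haveI : (Scheme.Modules.pullback h).IsLeftAdjoint := adj.isLeftAdjoint
  have key : (Scheme.Modules.pullback h).map (ClSub.idealModι J) = 0 ↔
      ClSub.idealModι J ≫ ClSub.unitToPush h = 0 := by
    have hu : ClSub.unitToPush h = adj.homEquiv _ _ (PicLoc.pullbackStructureIso h).hom := by
      refine (Eq.trans ?_ ((adj.homEquiv _ _).apply_symm_apply _).symm : _)
      rfl
    rw [hu, ← adj.homEquiv_naturality_left]
    constructor
    · intro h0
      rw [h0, zero_comp, Adjunction.homEquiv_unit, Functor.map_zero, comp_zero]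
    · intro h0
      refine (cancel_mono (PicLoc.pullbackStructureIso h).hom).1 ((adj.homEquiv _ _).injective ?_)
      rw [h0, zero_comp, Adjunction.homEquiv_unit, Functor.map_zero, comp_zero]
  rw [key]
  constructor
  · intro h0
    refine Scheme.IdealSheafData.le_ofIdeals_iff.2 fun U x hx => ?_
    obtain ⟨m, rfl⟩ := (OmegaAffLib.mem_range_idealSect J U x).1 hx
    exact congr(($h0).app U.1 m)
  · intro hle
    let w := IsClosedImmersion.lift J.subschemeι h (by rw [Scheme.IdealSheafData.ker_subschemeι]; exact hle)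
    refine Scheme.Modules.hom_ext _ _ fun U => ?_
    ext m
    show h.app U (OmegaSh.idealSect J U m) = 0
    have h1 : J.subschemeι.app U (OmegaSh.idealSect J U m) = 0 :=
      congr(($(kernel.condition (ClSub.toSubscheme J))).app U m)
    have hw : w ≫ J.subschemeι = h := IsClosedImmersion.lift_fac _ _ _
    have h2 : (w ≫ J.subschemeι).app U (OmegaSh.idealSect J U m) = 0 := by
      rw [Scheme.Hom.comp_app, CommRingCat.comp_apply, h1, map_zero]
    clear_value w
    subst hw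
    exact h2

variable {W S : Scheme.{u}} (I : W.IdealSheafData)

/-- The ideal of the multiple `(m + 1) D`. -/
def ipow : ℕ → W.IdealSheafData
  | 0 => I
  | m + 1 => ipow m * I

theorem ipow_ideal (m : ℕ) (U : W.affineOpens) : (ipow I m).ideal U = I.ideal U ^ (m + 1) := by
  induction m with
  | zero => rw [pow_one]; rfl
  | succ m ih =>
    rw [show ipow I (m + 1) = ipow I m * I from rfl, Scheme.IdealSheafData.ideal_mul, Pi.mul_apply, ih,
      ← pow_succ]

theorem ipow_good (q : W ⟶ S) (hI : BlowUp.IsEffCartierIdeal I) [Flat (I.subschemeι ≫ q)] (m : ℕ) :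
    BlowUp.IsEffCartierIdeal (ipow I m) ∧ Flat ((ipow I m).subschemeι ≫ q) := by
  induction m with
  | zero => exact ⟨hI, ‹_›⟩
  | succ m ih => exact S1702.result q (ipow I m) I ih ⟨hI, ‹_›⟩

/-- Off the support of an ideal. -/
theorem inf_eq_basicOpen {Q : W.Opens} (hQ : Q = I.support.compl) (U : W.affineOpens) (t : Γ(W, U.1))
    (ht : I.ideal U = Ideal.span {t}) : Q ⊓ U.1 = W.basicOpen t := by
  ext x
  subst hQ
  have h := congr(x ∈ $(I.coe_support_inter U))
  rw [ht, Scheme.zeroLocus_span, Scheme.zeroLocus_singleton] at h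
  constructor
  · rintro ⟨hx, hxU⟩
    by_contra hb
    exact hx (h.mpr ⟨hb, hxU⟩).1
  · intro hb
    have hxU : x ∈ U.1 := W.basicOpen_le t hb
    exact ⟨fun hx => (h.mp ⟨hx, hxU⟩).1 hb, hxU⟩

theorem isLocalization_ι (Q : W.Opens) {U : W.Opens} (hU : IsAffineOpen U) (t : Γ(W, U))
    (h : Q ⊓ U = W.basicOpen t) :
    letI := (Q.ι.app U).hom.toAlgebra
    IsLocalization.Away t Γ((Q : Scheme.{u}), Q.ι ⁻¹ᵁ U) :=
  hU.isLocalization_of_eq_basicOpen t (homOfLE (Set.image_preimage_subset Q.ι U)) (by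
    show Q.ι ''ᵁ Q.ι ⁻¹ᵁ U = _
    rw [Scheme.Hom.image_preimage_eq_opensRange_inf, Scheme.Opens.opensRange_ι, h])

theorem isUnit_ι (Q : W.Opens) {U : W.Opens} (hU : IsAffineOpen U) (t : Γ(W, U))
    (h : Q ⊓ U = W.basicOpen t) : IsUnit (Q.ι.app U t) := by
  letI := (Q.ι.app U).hom.toAlgebra
  haveI := isLocalization_ι Q hU t h
  exact IsLocalization.Away.algebraMap_isUnit t

theorem ι_app_injective (Q : W.Opens) {U : W.Opens} (hU : IsAffineOpen U) (t : Γ(W, U))
    (h : Q ⊓ U = W.basicOpen t) (ht : t ∈ nonZeroDivisors Γ(W, U)) : Function.Injective (Q.ι.app U) := by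
  letI := (Q.ι.app U).hom.toAlgebra
  haveI := isLocalization_ι Q hU t h
  exact IsLocalization.injective (M := Submonoid.powers t) Γ((Q : Scheme.{u}), Q.ι ⁻¹ᵁ U)
    (Submonoid.powers_le.2 ht)

theorem ι_surj (Q : W.Opens) {U : W.Opens} (hU : IsAffineOpen U) (t : Γ(W, U))
    (h : Q ⊓ U = W.basicOpen t) (c : Γ((Q : Scheme.{u}), Q.ι ⁻¹ᵁ U)) :
    ∃ (n : ℕ) (z : Γ(W, U)), c * Q.ι.app U t ^ n = Q.ι.app U z := by
  letI := (Q.ι.app U).hom.toAlgebra
  haveI := isLocalization_ι Q hU t h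
  obtain ⟨n, z, hz⟩ := IsLocalization.Away.surj t c
  exact ⟨n, z, hz⟩

theorem isAffineHom_ι (hI : BlowUp.IsEffCartierIdeal I) {Q : W.Opens} (hQ : Q = I.support.compl) :
    IsAffineHom Q.ι := by
  choose U hxU t _ ht using hI
  refine IsZariskiLocalAtTarget.of_iSup_eq_top (P := @IsAffineHom) (fun x => (U x).1)
    (Opens.ext (Set.eq_univ_of_forall fun x => by rw [Opens.coe_iSup]; exact Set.mem_iUnion.2 ⟨x, hxU x⟩))
    fun x => ?_
  haveI : IsAffine (U x).1 := (U x).2
  rw [HasAffineProperty.iff_of_isAffine (P := @IsAffineHom)]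
  show IsAffineOpen (Q.ι ⁻¹ᵁ (U x).1)
  rw [← Q.ι.isAffineOpen_iff_of_isOpenImmersion, Scheme.Hom.image_preimage_eq_opensRange_inf,
    Scheme.Opens.opensRange_ι, inf_eq_basicOpen I hQ (U x) (t x) (ht x)]
  exact (U x).2.basicOpen _

/-- A chart of the base change of a relative divisor. -/
theorem exists_chart (q : W ⟶ S) (hI : BlowUp.IsEffCartierIdeal I) [Flat (I.subschemeι ≫ q)]
    {Q : W.Opens} (hQ : Q = I.support.compl) {T : Scheme.{u}} (u : T ⟶ S) (w : ↥(pullback q u)) :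
    ∃ (U : W.affineOpens) (P : (pullback q u).affineOpens) (e : P.1 ≤ pullback.fst q u ⁻¹ᵁ U.1)
      (t : Γ(W, U.1)), w ∈ P.1 ∧ I.ideal U = Ideal.span {t} ∧ Q ⊓ U.1 = W.basicOpen t ∧
      (pullback.fst q u).appLE U.1 P.1 e t ∈ nonZeroDivisors Γ(pullback q u, P.1) ∧
      (pullback.fst q u ⁻¹ᵁ Q) ⊓ P.1 = (pullback q u).basicOpen ((pullback.fst q u).appLE U.1 P.1 e t) := by
  let g := pullback.fst q u
  obtain ⟨U, hxU, t, -, ht⟩ := hI (g w)
  obtain ⟨P₀, hwP₀, a, ha, hIa⟩ := RelDivLib.isEffCartier_baseChange q I hI u w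
  obtain ⟨r, hr, hwr⟩ := P₀.2.exists_basicOpen_le (V := P₀.1 ⊓ g ⁻¹ᵁ U.1) ⟨w, hwP₀, hxU⟩ hwP₀
  obtain ⟨a', ha', hIa'⟩ := RelDivLib.generator_res _ P₀ r ha hIa
  let P := (pullback q u).affineBasicOpen (U := P₀) r
  have e : P.1 ≤ g ⁻¹ᵁ U.1 := hr.trans inf_le_right
  refine ⟨U, P, e, t, hwr, ht, inf_eq_basicOpen I hQ U t ht, ?_, ?_⟩
  · have h := IdealStalkLib.comap_ideal I g U.2 P.2 e
    rw [ht, Ideal.map_span, Set.image_singleton] at h
    have h2 : a' ∈ Ideal.span {(g.appLE U.1 P.1 e) t} := by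
      rw [← h, hIa']; exact Ideal.mem_span_singleton_self _
    obtain ⟨y, hy⟩ := Ideal.mem_span_singleton.1 h2
    exact (mul_mem_nonZeroDivisors.1 (hy ▸ ha')).1
  · rw [Scheme.basicOpen_appLE, ← inf_eq_basicOpen I hQ U t ht, inf_comm]
    ext x
    exact ⟨fun ⟨h1, h2⟩ => ⟨h1, h2, e h1⟩, fun ⟨h1, h2, _⟩ => ⟨h1, h2⟩⟩

end Groth.Agent.DivExt
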