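import Groth.Agent.DivExtLib.Basic

/-!
Sections of an affine morphism extending a given one across a relative divisor: a closed condition.
-/

set_option autoImplicit false
set_option backward.isDefEq.respectTransparency false
set_option backward.defeqAttrib.useBackward true
set_option linter.style.haveILetI false

universe u

open CategoryTheory CategoryTheory.Limits AlgebraicGeometry TopologicalSpace Opposite

noncomputable section

namespace Groth.Agent.DivExt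

/-- Composites on sections. -/
theorem comp_eq {A B C : Scheme.{u}} {f : A ⟶ B} {g : B ⟶ C} {h : A ⟶ C} (hfg : f ≫ g = h)
    {U : C.Opens} {V : B.Opens} {O : A.Opens} (e₁ : V ≤ g ⁻¹ᵁ U) (e₂ : O ≤ f ⁻¹ᵁ V) (e₃ : O ≤ h ⁻¹ᵁ U)
    (z : Γ(C, U)) : f.appLE V O e₂ (g.appLE U V e₁ z) = h.appLE U O e₃ z := by
  subst hfg
  exact (appLE_comp_apply f g U V O e₁ e₂ z).symm

theorem app_eq {A B : Scheme.{u}} (f : A ⟶ B) (U : B.Opens) (z : Γ(B, U)) :
    f.app U z = f.appLE U (f ⁻¹ᵁ U) le_rfl z := by rw [Scheme.Hom.app_eq_appLE]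

variable {W S Y : Scheme.{u}} (q : W ⟶ S) (p : Y ⟶ W) (I : W.IdealSheafData) {Q : W.Opens}
  (s : (Q : Scheme.{u}) ⟶ Y)

/-- The closure of the section, restricted to a multiple of the divisor. -/
abbrev dd (m : ℕ) : pullback (s.imageι ≫ p) (ipow I m).subschemeι ⟶ (ipow I m).subscheme :=
  pullback.snd _ _

/-- The condition on a multiple of the divisor. -/
abbrev Cond (m : ℕ) ⦃T : Scheme.{u}⦄ (u : T ⟶ S) : Prop :=
  RhoVan.Van ((ipow I m).subschemeι ≫ q) (ClSub.idealModι (dd p I s m).ker) u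

theorem cond_iff (m : ℕ) {T : Scheme.{u}} (u : T ⟶ S) :
    Cond q p I s m u ↔ (dd p I s m).ker ≤ (pullback.snd (pullback.fst q u) (ipow I m).subschemeι).ker :=
  (RhoVan.van_iff _ _ ((IsPullback.of_hasPullback (pullback.fst q u) (ipow I m).subschemeι).flip.paste_vert
    (IsPullback.of_hasPullback q u))).trans (pullback_idealι_eq_zero_iff _ _)

/-- The extension problem. -/
abbrev HasExt {T : Scheme.{u}} (u : T ⟶ S) : Prop :=
  ∃ f : pullback q u ⟶ Y, f ≫ p = pullback.fst q u ∧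
    ((pullback.fst q u) ⁻¹ᵁ Q).ι ≫ f = ((pullback.fst q u) ∣_ Q) ≫ s

section

variable (hI : BlowUp.IsEffCartierIdeal I) [Flat (I.subschemeι ≫ q)] (hQ : Q = I.support.compl)
  [IsAffineHom p] (hs : s ≫ p = Q.ι)

include hI hQ in
theorem ker_ι_eq_bot {T : Scheme.{u}} (u : T ⟶ S) : ((pullback.fst q u) ⁻¹ᵁ Q).ι.ker = ⊥ := by
  haveI := isAffineHom_ι I hI hQ
  let QT := (pullback.fst q u) ⁻¹ᵁ Q
  haveI : IsAffineHom QT.ι :=
    MorphismProperty.of_isPullback (isPullback_morphismRestrict (pullback.fst q u) Q) ‹IsAffineHom Q.ι›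
  choose U P e t hwP ht hb hn hbT using exists_chart I q hI hQ u
  refine Scheme.IdealSheafData.ext_of_iSup_eq_top P
    (Opens.ext (Set.eq_univ_of_forall fun w => by rw [Opens.coe_iSup]; exact Set.mem_iUnion.2 ⟨w, hwP w⟩))
    fun w => ?_
  rw [Scheme.Hom.ker_apply, Scheme.IdealSheafData.ideal_bot, Pi.bot_apply,
    ← RingHom.injective_iff_ker_eq_bot]
  exact ι_app_injective QT (P w).2 _ (hbT w) (hn w)

include hI hQ hs in
theorem cond_of_hasExt {T : Scheme.{u}} (u : T ⟶ S) (h : HasExt q p s u) (m : ℕ) : Cond q p I s m u := by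
  obtain ⟨f, hf, hfs⟩ := h
  rw [cond_iff]
  let g := pullback.fst q u
  let QT := g ⁻¹ᵁ Q
  have hk : s.imageι.ker ≤ f.ker := by
    rw [Scheme.IdealSheafData.ker_subschemeι]
    refine (Scheme.Hom.le_ker_comp (g ∣_ Q) s).trans ?_
    rw [← hfs, Scheme.Hom.ker_comp, ker_ι_eq_bot q I hI hQ u, Scheme.IdealSheafData.map_bot]
  let f' := IsClosedImmersion.lift s.imageι f hk
  have hf' : f' ≫ s.imageι = f := IsClosedImmersion.lift_fac _ _ _
  have he : pullback.snd g (ipow I m).subschemeι =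
      pullback.lift (pullback.fst g (ipow I m).subschemeι ≫ f') (pullback.snd g (ipow I m).subschemeι)
        (by rw [Category.assoc, ← Category.assoc f', hf', hf, pullback.condition]) ≫ dd p I s m :=
    (pullback.lift_snd _ _ _).symm
  rw [he]
  exact Scheme.Hom.le_ker_comp _ _

omit [Flat (I.subschemeι ≫ q)] in
include hs in
theorem closure_mem (U : W.affineOpens) (t : Γ(W, U.1)) (ht : I.ideal U = Ideal.span {t}) (n : ℕ)
    (hsc : QuasiCompact s) (b : Γ(Y, p ⁻¹ᵁ U.1)) (e0 : Q.ι ⁻¹ᵁ U.1 ≤ s ⁻¹ᵁ (p ⁻¹ᵁ U.1)) (z : Γ(W, U.1))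
    (hz : Q.ι.app U.1 z = s.appLE (p ⁻¹ᵁ U.1) (Q.ι ⁻¹ᵁ U.1) e0 b * Q.ι.app U.1 t ^ (n + 1)) :
    (ipow I n).subschemeι.app U.1 z ∈
      (dd p I s n).ker.ideal ⟨(ipow I n).subschemeι ⁻¹ᵁ U.1, U.2.preimage (ipow I n).subschemeι⟩ := by
  let V : Y.affineOpens := ⟨p ⁻¹ᵁ U.1, U.2.preimage p⟩
  let qY := s.imageι ≫ p
  let j := s.toImage
  have hj : j ≫ qY = Q.ι := by rw [← Category.assoc, Scheme.Hom.toImage_imageι, hs]
  obtain ⟨y, hy⟩ : ∃ y : Γ(s.image, qY ⁻¹ᵁ U.1), y = s.imageι.app V.1 b := ⟨_, rfl⟩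
  have h3 : qY.app U.1 z = qY.app U.1 t ^ (n + 1) * y := by
    refine s.toImage_app_injective V ?_
    have ej : j ⁻¹ᵁ (qY ⁻¹ᵁ U.1) ≤ Q.ι ⁻¹ᵁ U.1 := (congrArg (fun m => m ⁻¹ᵁ U.1) hj).le
    have a1 : ∀ x, j.app (qY ⁻¹ᵁ U.1) (qY.app U.1 x) =
        (Q : Scheme.{u}).presheaf.map (homOfLE ej).op (Q.ι.app U.1 x) := fun x => by
      rw [app_eq qY, app_eq j, comp_eq hj le_rfl le_rfl ej]
      rfl
    have a2 : j.app (qY ⁻¹ᵁ U.1) y =
        (Q : Scheme.{u}).presheaf.map (homOfLE ej).op (s.appLE (p ⁻¹ᵁ U.1) (Q.ι ⁻¹ᵁ U.1) e0 b) := by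
      rw [hy, app_eq s.imageι]
      refine Eq.trans ?_ (congr(($(s.appLE_map e0 (homOfLE ej).op)).hom b)).symm
      show j.app (s.imageι ⁻¹ᵁ V.1) _ = _
      rw [app_eq j]
      exact comp_eq s.toImage_imageι le_rfl le_rfl _ b
    show j.app (qY ⁻¹ᵁ U.1) (qY.app U.1 z) = j.app (qY ⁻¹ᵁ U.1) (qY.app U.1 t ^ (n + 1) * y)
    rw [map_mul, map_pow, a1, a1, a2, hz, map_mul, map_pow, mul_comm]
  let A := (ipow I n).subschemeι
  let d := dd p I s n
  haveI : IsAffineHom d := MorphismProperty.pullback_snd _ _ inferInstance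
  have htA : A.app U.1 t ^ (n + 1) = 0 := by
    rw [← map_pow, ← RingHom.mem_ker, Scheme.IdealSheafData.ker_subschemeι_app, ipow_ideal, ht,
      Ideal.span_singleton_pow]
    exact Ideal.mem_span_singleton_self _
  rw [Scheme.Hom.ker_apply, RingHom.mem_ker]
  have hd : d ≫ A = pullback.fst qY A ≫ qY := pullback.condition.symm
  have eo : d ⁻¹ᵁ (A ⁻¹ᵁ U.1) ≤ pullback.fst qY A ⁻¹ᵁ (qY ⁻¹ᵁ U.1) :=
    (congrArg (fun m => m ⁻¹ᵁ U.1) hd).le
  have b1 : ∀ x, d.app (A ⁻¹ᵁ U.1) (A.app U.1 x) =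
      (pullback.fst qY A).appLE (qY ⁻¹ᵁ U.1) (d ⁻¹ᵁ (A ⁻¹ᵁ U.1)) eo (qY.app U.1 x) := fun x => by
    rw [app_eq A, app_eq d, app_eq qY, comp_eq hd le_rfl le_rfl eo]
    exact (comp_eq rfl le_rfl eo eo x).symm
  show d.app (A ⁻¹ᵁ U.1) (A.app U.1 z) = 0
  rw [b1, h3, map_mul, map_pow, ← b1, ← map_pow, htA, map_zero, zero_mul]

include hI hQ hs in
theorem piece {T : Scheme.{u}} (u : T ⟶ S) (hc : ∀ m, Cond q p I s m u) (hsc : QuasiCompact s)
    (U : W.affineOpens) (t : Γ(W, U.1)) (ht : I.ideal U = Ideal.span {t})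
    (hb : Q ⊓ U.1 = W.basicOpen t) (P : (pullback q u).affineOpens) (e : P.1 ≤ pullback.fst q u ⁻¹ᵁ U.1)
    (hbT : (pullback.fst q u ⁻¹ᵁ Q) ⊓ P.1 = (pullback q u).basicOpen ((pullback.fst q u).appLE U.1 P.1 e t))
    (b : Γ(Y, p ⁻¹ᵁ U.1))
    (h : (pullback.fst q u ⁻¹ᵁ Q).ι ⁻¹ᵁ P.1 ≤ (pullback.fst q u ∣_ Q ≫ s) ⁻¹ᵁ (p ⁻¹ᵁ U.1)) :
    (pullback.fst q u ∣_ Q ≫ s).appLE (p ⁻¹ᵁ U.1) ((pullback.fst q u ⁻¹ᵁ Q).ι ⁻¹ᵁ P.1) h b ∈
      ((pullback.fst q u ⁻¹ᵁ Q).ι.app P.1).hom.range := by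
  let g := pullback.fst q u
  let QT := g ⁻¹ᵁ Q
  let k := g ∣_ Q
  have hk : QT.ι ≫ g = k ≫ Q.ι := (morphismRestrict_ι g Q).symm
  let t' := g.appLE U.1 P.1 e t
  let O := QT.ι ⁻¹ᵁ P.1
  have e0 : Q.ι ⁻¹ᵁ U.1 ≤ s ⁻¹ᵁ (p ⁻¹ᵁ U.1) := (congrArg (fun m => m ⁻¹ᵁ U.1) hs).ge
  have eg : O ≤ (QT.ι ≫ g) ⁻¹ᵁ U.1 := ((Opens.map QT.ι.base).map (homOfLE e)).le
  have ek : O ≤ k ⁻¹ᵁ (Q.ι ⁻¹ᵁ U.1) := eg.trans (congrArg (fun m => m ⁻¹ᵁ U.1) hk).le
  obtain ⟨n, z, hz⟩ := ι_surj Q U.2 t hb (s.appLE (p ⁻¹ᵁ U.1) (Q.ι ⁻¹ᵁ U.1) e0 b)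
  have hz₁ : Q.ι.app U.1 (z * t) =
      s.appLE (p ⁻¹ᵁ U.1) (Q.ι ⁻¹ᵁ U.1) e0 b * Q.ι.app U.1 t ^ (n + 1) := by
    rw [map_mul, ← hz, pow_succ, mul_assoc]
  let A := (ipow I n).subschemeι
  let UA : (ipow I n).subscheme.affineOpens := ⟨A ⁻¹ᵁ U.1, U.2.preimage A⟩
  let ee := pullback.snd g A
  have hker : ee.app UA.1 (A.app U.1 (z * t)) = 0 :=
    ee.ideal_ker_le UA ((cond_iff q p I s n u).1 (hc n) UA (closure_mem p I s hs U t ht n hsc b e0 _ hz₁))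
  have hz' : g.appLE U.1 P.1 e (z * t) ∈ Ideal.span {t' ^ (n + 1)} := by
    have h4 := IdealStalkLib.comap_ideal (ipow I n) g U.2 P.2 e
    rw [ipow_ideal, ht, Ideal.span_singleton_pow, Ideal.map_span, Set.image_singleton, map_pow] at h4
    show _ ∈ Ideal.span {(g.appLE U.1 P.1 e).hom t ^ (n + 1)}
    rw [← h4]
    show _ ∈ (pullback.fst g A).ker.ideal P
    rw [Scheme.Hom.ker_apply, RingHom.mem_ker]
    have hee : pullback.fst g A ≫ g = ee ≫ A := pullback.condition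
    have eo : (pullback.fst g A) ⁻¹ᵁ P.1 ≤ ee ⁻¹ᵁ UA.1 :=
      ((Opens.map (pullback.fst g A).base).map (homOfLE e)).le.trans (congrArg (fun m => m ⁻¹ᵁ U.1) hee).le
    have c1 : (pullback.fst g A).app P.1 (g.appLE U.1 P.1 e (z * t)) =
        ee.appLE UA.1 ((pullback.fst g A) ⁻¹ᵁ P.1) eo (A.app U.1 (z * t)) := by
      rw [app_eq A, app_eq (pullback.fst g A), comp_eq hee e le_rfl eo]
      exact (comp_eq rfl le_rfl eo eo (z * t)).symm
    rw [c1]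
    show (pullback g A).presheaf.map (homOfLE eo).op (ee.app UA.1 (A.app U.1 (z * t))) = 0
    rw [hker, map_zero]
  obtain ⟨v, hv⟩ := Ideal.mem_span_singleton'.1 hz'
  refine ⟨v, ((isUnit_ι QT P.2 t' hbT).pow (n + 1)).mul_left_inj.1 ?_⟩
  rw [← map_pow, ← map_mul, hv]
  have r1 : ∀ x, QT.ι.app P.1 (g.appLE U.1 P.1 e x) = k.appLE (Q.ι ⁻¹ᵁ U.1) O ek (Q.ι.app U.1 x) := fun x => by
    rw [app_eq Q.ι, app_eq QT.ι, comp_eq hk e le_rfl ek]
    exact (comp_eq rfl le_rfl ek ek x).symm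
  rw [r1, hz₁, map_mul, map_pow, map_pow, r1]
  congr 1
  exact comp_eq rfl e0 ek _ b

include hI hQ hs in
theorem key {T : Scheme.{u}} (u : T ⟶ S) (hc : ∀ m, Cond q p I s m u) (hsc : QuasiCompact s)
    (sT : ((pullback.fst q u ⁻¹ᵁ Q : (pullback q u).Opens) : Scheme.{u}) ⟶ pullback p (pullback.fst q u))
    (hsT1 : sT ≫ pullback.fst p (pullback.fst q u) = pullback.fst q u ∣_ Q ≫ s)
    (hsT2 : sT ≫ pullback.snd p (pullback.fst q u) = (pullback.fst q u ⁻¹ᵁ Q).ι)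
    (U : W.affineOpens) (t : Γ(W, U.1)) (ht : I.ideal U = Ideal.span {t})
    (hb : Q ⊓ U.1 = W.basicOpen t) (P : (pullback q u).affineOpens) (e : P.1 ≤ pullback.fst q u ⁻¹ᵁ U.1)
    (hbT : (pullback.fst q u ⁻¹ᵁ Q) ⊓ P.1 = (pullback q u).basicOpen ((pullback.fst q u).appLE U.1 P.1 e t))
    (y : Γ(pullback p (pullback.fst q u), pullback.snd p (pullback.fst q u) ⁻¹ᵁ P.1))
    (hO : (pullback.fst q u ⁻¹ᵁ Q).ι ⁻¹ᵁ P.1 ≤ sT ⁻¹ᵁ (pullback.snd p (pullback.fst q u) ⁻¹ᵁ P.1)) :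
    sT.appLE (pullback.snd p (pullback.fst q u) ⁻¹ᵁ P.1) ((pullback.fst q u ⁻¹ᵁ Q).ι ⁻¹ᵁ P.1) hO y ∈
      ((pullback.fst q u ⁻¹ᵁ Q).ι.app P.1).hom.range := by
  let g := pullback.fst q u
  let pT := pullback.snd p g
  let O := (g ⁻¹ᵁ Q).ι ⁻¹ᵁ P.1
  let R := ((g ⁻¹ᵁ Q).ι.app P.1).hom.range
  have hpc : pullback.fst p g ≫ p = pT ≫ g := pullback.condition
  obtain ⟨-, hpo⟩ := PullbackMod.isPushout_appLE (IsPullback.of_hasPullback p g) U.2 (U.2.preimage p) P.2 le_rfl e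
  let M := pullback.fst p g ⁻¹ᵁ (p ⁻¹ᵁ U.1) ⊓ pT ⁻¹ᵁ P.1
  have hPe : pT ⁻¹ᵁ P.1 ≤ pullback.fst p g ⁻¹ᵁ (p ⁻¹ᵁ U.1) :=
    ((Opens.map pT.base).map (homOfLE e)).le.trans (congrArg (fun m => m ⁻¹ᵁ U.1) hpc).ge
  let ρ := (pullback p g).presheaf.map (homOfLE (inf_le_right : M ≤ pT ⁻¹ᵁ P.1)).op
  have hOM : O ≤ sT ⁻¹ᵁ M := hO.trans ((Opens.map sT.base).map (homOfLE (le_inf hPe le_rfl))).le
  let τ := sT.appLE M O hOM
  have hτ : ρ ≫ τ = sT.appLE (pT ⁻¹ᵁ P.1) O hO := Scheme.Hom.map_appLE _ _ _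
  rw [show sT.appLE (pT ⁻¹ᵁ P.1) O hO y = τ (ρ y) from congr(($hτ).hom y).symm]
  letI : Algebra Γ(W, U.1) Γ(Y, p ⁻¹ᵁ U.1) := (p.appLE U.1 (p ⁻¹ᵁ U.1) le_rfl).hom.toAlgebra
  letI : Algebra Γ(W, U.1) Γ(pullback q u, P.1) := (g.appLE U.1 P.1 e).hom.toAlgebra
  letI : Algebra Γ(Y, p ⁻¹ᵁ U.1) Γ(pullback p g, M) :=
    ((pullback.fst p g).appLE (p ⁻¹ᵁ U.1) M inf_le_left).hom.toAlgebra
  letI : Algebra Γ(pullback q u, P.1) Γ(pullback p g, M) := (pT.appLE P.1 M inf_le_right).hom.toAlgebra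
  letI : Algebra Γ(W, U.1) Γ(pullback p g, M) :=
    (((pullback.fst p g).appLE (p ⁻¹ᵁ U.1) M inf_le_left).hom.comp (p.appLE U.1 (p ⁻¹ᵁ U.1) le_rfl).hom).toAlgebra
  haveI : IsScalarTower Γ(W, U.1) Γ(Y, p ⁻¹ᵁ U.1) Γ(pullback p g, M) := .of_algebraMap_eq fun _ => rfl
  haveI : IsScalarTower Γ(W, U.1) Γ(pullback q u, P.1) Γ(pullback p g, M) := .of_algebraMap_eq' (by
    show ((p.appLE U.1 _ le_rfl) ≫ (pullback.fst p g).appLE _ M inf_le_left).hom =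
      ((g.appLE U.1 P.1 e) ≫ pT.appLE P.1 M inf_le_right).hom
    simp only [Scheme.Hom.appLE_comp_appLE, hpc])
  haveI hP : Algebra.IsPushout Γ(W, U.1) Γ(pullback q u, P.1) Γ(Y, p ⁻¹ᵁ U.1) Γ(pullback p g, M) := hpo
  suffices ∀ m, τ m ∈ R from this (ρ y)
  intro m
  induction m using hP.out.inductionOn with
  | zero => rw [map_zero]; exact zero_mem R
  | tmul b =>
    have h1 : O ≤ (g ∣_ Q ≫ s) ⁻¹ᵁ (p ⁻¹ᵁ U.1) := by
      rw [← hsT1]
      exact hOM.trans ((Opens.map sT.base).map (homOfLE inf_le_left)).le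
    show τ ((pullback.fst p g).appLE (p ⁻¹ᵁ U.1) M inf_le_left b) ∈ R
    rw [show τ ((pullback.fst p g).appLE (p ⁻¹ᵁ U.1) M inf_le_left b) = _ from comp_eq hsT1 inf_le_left hOM h1 b]
    exact piece q p I s hI hQ hs u hc hsc U t ht hb P e hbT b h1
  | smul c m hm =>
    rw [Algebra.smul_def, map_mul]
    refine mul_mem ?_ hm
    show τ (pT.appLE P.1 M inf_le_right c) ∈ R
    rw [show τ (pT.appLE P.1 M inf_le_right c) = _ from comp_eq hsT2 inf_le_right hOM le_rfl c, ← app_eq]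
    exact ⟨c, rfl⟩
  | add a b ha hb => rw [map_add]; exact add_mem ha hb

include hI hQ hs in
theorem hasExt_of_cond {T : Scheme.{u}} (u : T ⟶ S) (hc : ∀ m, Cond q p I s m u) : HasExt q p s u := by
  haveI := isAffineHom_ι I hI hQ
  let g := pullback.fst q u
  let QT := g ⁻¹ᵁ Q
  let k := g ∣_ Q
  have hk : k ≫ Q.ι = QT.ι ≫ g := morphismRestrict_ι g Q
  haveI : IsAffineHom QT.ι :=
    MorphismProperty.of_isPullback (isPullback_morphismRestrict g Q) ‹IsAffineHom Q.ι›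
  haveI hsc : QuasiCompact s := by
    haveI : QuasiCompact (s ≫ p) := hs ▸ inferInstance
    exact QuasiCompact.of_comp s p
  let pT := pullback.snd p g
  haveI : IsAffineHom pT := MorphismProperty.pullback_snd _ _ ‹IsAffineHom p›
  let sT : (QT : Scheme.{u}) ⟶ pullback p g := pullback.lift (k ≫ s) QT.ι (by rw [Category.assoc, hs, hk])
  have hsT1 : sT ≫ pullback.fst p g = k ≫ s := pullback.lift_fst _ _ _
  have hsT2 : sT ≫ pT = QT.ι := pullback.lift_snd _ _ _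
  haveI : QuasiCompact sT := by
    haveI : QuasiCompact (sT ≫ pT) := hsT2 ▸ inferInstance
    exact QuasiCompact.of_comp sT pT
  let π := sT.imageι ≫ pT
  have hjπ : sT.toImage ≫ π = QT.ι := by rw [← Category.assoc, Scheme.Hom.toImage_imageι, hsT2]
  choose U P e t hwP ht hb hn hbT using exists_chart I q hI hQ u
  -- the closure of the base change of the section maps isomorphically
  haveI : IsIso π := by
    refine IsZariskiLocalAtTarget.of_iSup_eq_top (P := MorphismProperty.isomorphisms Scheme.{u})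
      (fun w => (P w).1)
      (Opens.ext (Set.eq_univ_of_forall fun w => by rw [Opens.coe_iSup]; exact Set.mem_iUnion.2 ⟨w, hwP w⟩))
      fun w => ?_
    let P := P w
    let j := sT.toImage
    have hcomp : ∀ x, j.app (π ⁻¹ᵁ P.1) (π.app P.1 x) =
        (QT : Scheme.{u}).presheaf.map (eqToHom (by rw [← Scheme.Hom.comp_preimage, hjπ])).op (QT.ι.app P.1 x) := by
      intro x
      have := congr(($(Scheme.Hom.congr_app hjπ P.1)).hom x)
      simpa using this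
    have hbij : Function.Bijective (π.app P.1) := by
      constructor
      · intro x₁ x₂ hx
        refine ι_app_injective QT P.2 _ (hbT w) (hn w) ?_
        have := congrArg (j.app (π ⁻¹ᵁ P.1)) hx
        rw [hcomp, hcomp] at this
        exact (ConcreteCategory.bijective_of_isIso _).1 this
      · intro a
        obtain ⟨y, hy⟩ := sT.imageι.app_surjective (pT ⁻¹ᵁ P.1) (P.2.preimage pT) a
        obtain ⟨x, hx⟩ := key q p I s hI hQ hs u hc hsc sT hsT1 hsT2 (U w) (t w) (ht w) (hb w) P (e w) (hbT w) y (congrArg (fun m => m ⁻¹ᵁ P.1) hsT2).ge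
        refine ⟨x, sT.toImage_app_injective ⟨pT ⁻¹ᵁ P.1, P.2.preimage pT⟩ ?_⟩
        show j.app (π ⁻¹ᵁ P.1) (π.app P.1 x) = j.app (π ⁻¹ᵁ P.1) a
        rw [hcomp, ← hy, app_eq sT.imageι, app_eq j, hx]
        refine Eq.trans ?_ (comp_eq sT.toImage_imageι le_rfl le_rfl
          (le_of_eq (by rw [← Scheme.Hom.comp_preimage, Scheme.Hom.toImage_imageι])) y).symm
        exact congr(($(sT.appLE_map _ _)).hom y)
    haveI : IsAffine P.1 := P.2
    haveI : IsAffine (π ⁻¹ᵁ P.1 : Scheme.{u}) := P.2.preimage π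
    haveI : IsIso (π.app (P.1.ι ''ᵁ ⊤)) := by
      have hh : P.1.ι ''ᵁ ⊤ = P.1 := P.1.ι_image_top
      rw [hh]
      exact (ConcreteCategory.isIso_iff_bijective _).2 hbij
    haveI : IsIso (π ∣_ P.1).appTop := by
      rw [Scheme.Hom.appTop, morphismRestrict_app]
      infer_instance
    show IsIso (π ∣_ P.1)
    rw [← Category.comp_id (π ∣_ P.1), ← (P.1 : Scheme.{u}).isoSpec.hom_inv_id, ← Category.assoc,
      ← Scheme.isoSpec_hom_naturality]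
    infer_instance
  refine ⟨inv π ≫ sT.imageι ≫ pullback.fst p g, ?_, ?_⟩
  · rw [Category.assoc, Category.assoc, pullback.condition, ← Category.assoc sT.imageι]
    exact IsIso.inv_hom_id_assoc π g
  · rw [← hjπ, Category.assoc, IsIso.hom_inv_id_assoc, Scheme.Hom.toImage_imageι_assoc, hsT1]

end

include q in
/-- The locus where the section extends is a closed subscheme. -/
theorem exists_closed_extension [IsProper q] [LocallyOfFinitePresentation q] [IsAffineHom p]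
    (hI : BlowUp.IsEffCartierIdeal I) [Flat (I.subschemeι ≫ q)] (hQ : Q = I.support.compl)
    (hs : s ≫ p = Q.ι) :
    ∃ (Z : Scheme.{u}) (i : Z ⟶ S), IsClosedImmersion i ∧
      ∀ (T : Scheme.{u}) (u : T ⟶ S), (∃ h : T ⟶ Z, h ≫ i = u) ↔ HasExt q p s u := by
  have h1 : ∀ m, RhoVan.RepClosed (Cond q p I s m) (𝟙 S) := fun m => by
    obtain ⟨hm, hfl⟩ := ipow_good I q hI m
    haveI := hfl
    haveI : LocallyOfFinitePresentation (ipow I m).subschemeι := HilbCurveLib.lfp_subschemeι _ hm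
    haveI := OmegaAffLib.isQCoh_idealMod (dd p I s m).ker
    exact RhoVan.exists_closed_vanishing ((ipow I m).subschemeι ≫ q) (ClSub.idealModι (dd p I s m).ker)
      (FlatStage.isFP_structureModule _)
      (fun x => (FlatStage.isFlatOverAt_structureModule _ x).2 (Flat.stalkMap _ x))
  obtain ⟨Z, i, hi, h⟩ := RhoVan.repClosed_inter (Cond q p I s) (fun T u => HasExt q p s u) (𝟙 S)
    (fun T u => ⟨fun hf m => cond_of_hasExt q p I s hI hQ hs u hf m,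
      fun hc => hasExt_of_cond q p I s hI hQ hs u hc⟩) h1
  exact ⟨Z, i, hi, fun T u => (h T u).trans (by rw [Category.comp_id])⟩

end Groth.Agent.DivExt
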