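import Groth.Agent.DivExtLib.Basic
import Mathlib.CategoryTheory.Monoidal.Cartesian.Over

/-!
The locus over which a proper flat family lands in a closed subscheme.
-/

set_option autoImplicit false
set_option backward.isDefEq.respectTransparency false
set_option backward.defeqAttrib.useBackward true
set_option linter.style.haveILetI false

universe u

open CategoryTheory CategoryTheory.Limits AlgebraicGeometry TopologicalSpace Opposite

noncomputable section

namespace Groth.Agent.DivExt

theorem factor_iff {A E : Scheme.{u}} (e : A ⟶ E) (J : E.IdealSheafData) :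
    (∃ d : A ⟶ J.subscheme, d ≫ J.subschemeι = e) ↔ J ≤ e.ker := by
  constructor
  · rintro ⟨d, rfl⟩
    exact J.ker_subschemeι.ge.trans (d.le_ker_comp _)
  · intro h
    exact ⟨IsClosedImmersion.lift J.subschemeι e (by rw [J.ker_subschemeι]; exact h), IsClosedImmersion.lift_fac _ _ _⟩

theorem repClosed_factor {Y S E : Scheme.{u}} (q : Y ⟶ S) [IsProper q] [LocallyOfFinitePresentation q] [Flat q]
    (φ : Y ⟶ E) (J : E.IdealSheafData) :
    RhoVan.RepClosed (fun _ u => ∃ d, d ≫ J.subschemeι = pullback.fst q u ≫ φ) (𝟙 S) := by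
  haveI := OmegaAffLib.isQCoh_idealMod (J.comap φ)
  obtain ⟨Z, e, he, h⟩ := RhoVan.exists_closed_vanishing q (ClSub.idealModι (J.comap φ))
    (FlatStage.isFP_structureModule _)
    (fun x => (FlatStage.isFlatOverAt_structureModule _ x).2 (Flat.stalkMap q x))
  refine ⟨Z, e, he, fun T v => (h T v).trans ?_⟩
  refine (pullback_idealι_eq_zero_iff (pullback.fst q (v ≫ 𝟙 S)) (J.comap φ)).trans ((factor_iff _ _).symm.trans ?_)
  constructor
  · rintro ⟨d, hd⟩
    exact ⟨d ≫ (J.comapIso φ).hom ≫ pullback.snd φ J.subschemeι, by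
      rw [Category.assoc, Category.assoc, ← pullback.condition, J.comapIso_hom_fst_assoc, ← Category.assoc, hd]⟩
  · rintro ⟨d, hd⟩
    exact ⟨pullback.lift (pullback.fst q (v ≫ 𝟙 S)) d hd.symm ≫ (J.comapIso φ).inv, by
      rw [Category.assoc, J.comapIso_inv_subschemeι, pullback.lift_fst]⟩

variable {S : Scheme.{u}} {E Y : Over S} (J : E.left.IdealSheafData)

/-- A point lies in the closed subscheme. -/
def InSub {X : Over S} (x : X ⟶ E) : Prop := ∃ d : X.left ⟶ J.subscheme, d ≫ J.subschemeι = x.left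

theorem inSub_forall_iff (φ : Y ⟶ E) {T : Scheme.{u}} (u : T ⟶ S) :
    (∀ (T' : Scheme.{u}) (a : T' ⟶ T) (y : Over.mk (a ≫ u) ⟶ Y), InSub J (y ≫ φ)) ↔
      ∃ d, d ≫ J.subschemeι = pullback.fst Y.hom u ≫ φ.left := by
  constructor
  · intro h
    exact h (pullback Y.hom u) (pullback.snd Y.hom u) (Over.homMk (pullback.fst Y.hom u) pullback.condition)
  · rintro ⟨d, hd⟩ T' a y
    refine ⟨pullback.lift y.left a (Over.w y) ≫ d, ?_⟩
    rw [Category.assoc, hd, pullback.lift_fst_assoc]
    rfl

end Groth.Agent.DivExt
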