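import Groth.Agent.PullbackMod.Hom
import Groth.Prelude.Def_ClSub2

/-! The sequence of the ideal sheaf of a closed immersion. -/

set_option autoImplicit false
set_option backward.isDefEq.respectTransparency false
set_option linter.style.haveILetI false

universe u

open CategoryTheory CategoryTheory.Limits AlgebraicGeometry TopologicalSpace Opposite

noncomputable section

namespace Groth.Agent.DivExtLib

variable {X Z : Scheme.{u}} (i : Z ⟶ X) [IsClosedImmersion i]

theorem epi_unitToPush : Epi (ClSub.unitToPush i) := by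
  refine (PullbackMod.epi_iff_stalk _).2 fun x z => ?_
  obtain ⟨W, hxW, s, rfl⟩ :=
    TopCat.Presheaf.exists_germ_eq ((Scheme.Modules.pushforward i).obj (Coh.structureModule Z)).presheaf z
  obtain ⟨U, hU, hxU, hUW⟩ := exists_isAffineOpen_mem_and_subset (x := x) (U := W) hxW
  obtain ⟨t, ht⟩ := (Scheme.Hom.app_surjective i U hU)
    (((Scheme.Modules.pushforward i).obj (Coh.structureModule Z)).presheaf.map (homOfLE hUW).op s)
  refine ⟨(Coh.structureModule X).presheaf.germ U x hxU t, ?_⟩
  refine (PullbackMod.stalkLin_germ (ClSub.unitToPush i) x hxU t).trans ?_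
  refine (congrArg _ ht).trans ?_
  exact TopCat.Presheaf.germ_res_apply _ (homOfLE hUW) x hxU s

theorem app_eq_zero_iff {U : X.Opens} (r : Γ(X, U)) :
    i.app U r = 0 ↔ i.ker.subschemeι.app U r = 0 := by
  have e : i.toImage ≫ i.ker.subschemeι = i := i.toImage_imageι
  have h2 := congr($(Scheme.Hom.congr_app e U) r)
  rw [Scheme.Hom.comp_app] at h2
  simp only [CommRingCat.comp_apply] at h2
  haveI : IsIso i.toImage := inferInstanceAs (IsIso i.toImage)
  refine Iff.trans ?_ (map_eq_zero_iff _
    (ConcreteCategory.bijective_of_isIso (i.toImage.app (i.ker.subschemeι ⁻¹ᵁ U))).1)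
  constructor
  · intro h0
    exact h2.trans ((congrArg _ h0).trans (map_zero _))
  · intro h0
    exact (map_eq_zero_iff _ (ConcreteCategory.bijective_of_isIso (Z.presheaf.map (eqToHom _).op)).1).1
      (h2.symm.trans h0)

/-- `0 ⟶ I ⟶ O_X ⟶ i_* O_Z ⟶ 0`. -/
theorem exists_idealSeq : ∃ (f : ClSub.idealMod i.ker ⟶ Coh.structureModule X)
    (g : Coh.structureModule X ⟶ (Scheme.Modules.pushforward i).obj (Coh.structureModule Z)) (w : f ≫ g = 0),
    (ShortComplex.mk f g w).ShortExact := by
  have hzero : ∀ {A : X.Modules} (t : A ⟶ Coh.structureModule X),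
      t ≫ ClSub.unitToPush i = 0 ↔ t ≫ ClSub.toSubscheme i.ker = 0 := by
    intro A t
    constructor <;> intro h <;> refine Scheme.Modules.hom_ext _ _ fun U => ?_ <;>
      refine AddCommGrpCat.ext fun a => ?_
    · have h1 : i.app U (t.app U a) = 0 := congr(($h).app U a)
      exact (app_eq_zero_iff i _).1 h1
    · have h1 : i.ker.subschemeι.app U (t.app U a) = 0 := congr(($h).app U a)
      exact (app_eq_zero_iff i _).2 h1
  have w : ClSub.idealModι i.ker ≫ ClSub.unitToPush i = 0 := (hzero _).2 (kernel.condition _)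
  refine ⟨ClSub.idealModι i.ker, ClSub.unitToPush i, w, ?_⟩
  refine ShortComplex.ShortExact.mk' (ShortComplex.exact_of_f_is_kernel _ ?_)
    (show Mono (kernel.ι (ClSub.toSubscheme i.ker)) from inferInstance) (epi_unitToPush i)
  haveI : Mono (ClSub.idealModι i.ker) := show Mono (kernel.ι (ClSub.toSubscheme i.ker)) from inferInstance
  exact KernelFork.IsLimit.ofι' (ClSub.idealModι i.ker) w fun t ht =>
    ⟨kernel.lift _ t ((hzero t).1 ht), kernel.lift_ι _ _ _⟩

end Groth.Agent.DivExtLib
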