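import Groth.Agent.DivExtLib.Factor

/-!
The locus over which a closed subscheme of a group is a subgroup.
-/

set_option autoImplicit false
set_option backward.isDefEq.respectTransparency false
set_option backward.defeqAttrib.useBackward true
set_option linter.style.haveILetI false

universe u

open CategoryTheory CategoryTheory.Limits AlgebraicGeometry MonoidalCategory CartesianMonoidalCategory
open scoped MonObj GrpObj

noncomputable section

namespace Groth.Agent.DivExt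

variable {S : Scheme.{u}} (E : Over S) [GrpObj E] (J : E.left.IdealSheafData)

theorem exists_closed_subgroup [IsProper E.hom] [Flat (J.subschemeι ≫ E.hom)]
    [LocallyOfFinitePresentation (J.subschemeι ≫ E.hom)] :
    ∃ 𝓩 : S.IdealSheafData, ∀ (T : Scheme.{u}) (g : T ⟶ S),
      (∃ t : T ⟶ 𝓩.subscheme, t ≫ 𝓩.subschemeι = g) ↔
        ∀ (T' : Scheme.{u}) (a : T' ⟶ T), ∃ H : Subgroup (Over.mk (a ≫ g) ⟶ E),
          (H : Set (Over.mk (a ≫ g) ⟶ E)) =
            {x | ∃ d : T' ⟶ J.subscheme, d ≫ J.subschemeι = x.left} := by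
  let D : Over S := Over.mk (J.subschemeι ≫ E.hom)
  let i : D ⟶ E := Over.homMk J.subschemeι
  haveI : IsProper D.hom := by dsimp [D]; infer_instance
  haveI : Flat D.hom := ‹_›
  haveI : LocallyOfFinitePresentation D.hom := ‹_›
  haveI : IsProper (D ⊗ D).hom := by
    show IsProper (pullback.fst D.hom D.hom ≫ D.hom)
    infer_instance
  haveI : Flat (D ⊗ D).hom := by
    show Flat (pullback.fst D.hom D.hom ≫ D.hom)
    infer_instance
  haveI : LocallyOfFinitePresentation (D ⊗ D).hom := by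
    show LocallyOfFinitePresentation (pullback.fst D.hom D.hom ≫ D.hom)
    infer_instance
  haveI : IsProper (𝟙_ (Over S)).hom := by show IsProper (𝟙 S); infer_instance
  haveI : Flat (𝟙_ (Over S)).hom := by show Flat (𝟙 S); infer_instance
  haveI : LocallyOfFinitePresentation (𝟙_ (Over S)).hom := by
    show LocallyOfFinitePresentation (𝟙 S); infer_instance
  let φ₁ : 𝟙_ (Over S) ⟶ E := η[E]
  let φ₂ : D ⟶ E := i ≫ ι[E]
  let φ₃ : D ⊗ D ⟶ E := (i ⊗ₘ i) ≫ μ[E]
  let P : Fin 3 → ∀ ⦃T : Scheme.{u}⦄, (T ⟶ S) → Prop :=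
    ![fun _ u => ∃ d, d ≫ J.subschemeι = pullback.fst (𝟙_ (Over S)).hom u ≫ φ₁.left,
      fun _ u => ∃ d, d ≫ J.subschemeι = pullback.fst D.hom u ≫ φ₂.left,
      fun _ u => ∃ d, d ≫ J.subschemeι = pullback.fst (D ⊗ D).hom u ≫ φ₃.left]
  have hP : ∀ k, RhoVan.RepClosed (P k) (𝟙 S) := by
    intro k
    fin_cases k
    · exact repClosed_factor _ φ₁.left J
    · exact repClosed_factor _ φ₂.left J
    · exact repClosed_factor _ φ₃.left J
  let Q : ∀ ⦃T : Scheme.{u}⦄, (T ⟶ S) → Prop := fun T g =>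
    ∀ (T' : Scheme.{u}) (a : T' ⟶ T), ∃ H : Subgroup (Over.mk (a ≫ g) ⟶ E),
      (H : Set (Over.mk (a ≫ g) ⟶ E)) = {x | ∃ d : T' ⟶ J.subscheme, d ≫ J.subschemeι = x.left}
  have hPQ : ∀ (T : Scheme.{u}) (g : T ⟶ S), Q g ↔ ∀ k, P k g := by
    intro T g
    have h₁ := inSub_forall_iff J φ₁ g
    have h₂ := inSub_forall_iff J φ₂ g
    have h₃ := inSub_forall_iff J φ₃ g
    have hpt : ∀ {X : Over S} (x : X ⟶ E), InSub J x → ∃ x₀ : X ⟶ D, x₀ ≫ i = x := by
      rintro X x ⟨d, hd⟩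
      refine ⟨Over.homMk d (by show d ≫ J.subschemeι ≫ E.hom = _; rw [reassoc_of% hd]; exact Over.w x), ?_⟩
      ext1
      exact hd
    constructor
    · intro hQ k
      fin_cases k
      · refine h₁.1 fun T' a y => ?_
        obtain ⟨H, hH⟩ := hQ T' a
        have h1 : (1 : Over.mk (a ≫ g) ⟶ E) ∈ (H : Set (Over.mk (a ≫ g) ⟶ E)) := H.one_mem
        rw [hH] at h1
        rw [show y = toUnit _ from Subsingleton.elim _ _]
        exact h1
      · refine h₂.1 fun T' a y => ?_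
        obtain ⟨H, hH⟩ := hQ T' a
        have hy : y ≫ i ∈ (H : Set (Over.mk (a ≫ g) ⟶ E)) := by rw [hH]; exact ⟨y.left, rfl⟩
        have h1 : (y ≫ i)⁻¹ ∈ (H : Set (Over.mk (a ≫ g) ⟶ E)) := H.inv_mem hy
        rw [hH] at h1
        rw [show y ≫ φ₂ = (y ≫ i)⁻¹ from (Category.assoc _ _ _).symm]
        exact h1
      · refine h₃.1 fun T' a y => ?_
        obtain ⟨H, hH⟩ := hQ T' a
        have hy : ∀ z : Over.mk (a ≫ g) ⟶ D, z ≫ i ∈ (H : Set (Over.mk (a ≫ g) ⟶ E)) := fun z => by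
          rw [hH]; exact ⟨z.left, rfl⟩
        have h1 : (y ≫ fst D D ≫ i) * (y ≫ snd D D ≫ i) ∈ (H : Set (Over.mk (a ≫ g) ⟶ E)) := by
          rw [← Category.assoc, ← Category.assoc]
          exact H.mul_mem (hy _) (hy _)
        rw [hH] at h1
        rw [show y ≫ φ₃ = (y ≫ fst D D ≫ i) * (y ≫ snd D D ≫ i) by
          rw [Hom.mul_def, show φ₃ = (i ⊗ₘ i) ≫ μ from rfl, ← Category.assoc]
          congr 1
          apply CartesianMonoidalCategory.hom_ext <;> simp]
        exact h1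
    · intro hk T' a
      have k₁ := h₁.2 (hk 0) T' a
      have k₂ := h₂.2 (hk 1) T' a
      have k₃ := h₃.2 (hk 2) T' a
      refine ⟨{ carrier := {x | InSub J x}, one_mem' := k₁ _, mul_mem' := ?_, inv_mem' := ?_ }, rfl⟩
      · intro x y hx hy
        obtain ⟨x₀, rfl⟩ := hpt x hx
        obtain ⟨y₀, rfl⟩ := hpt y hy
        have := k₃ (lift x₀ y₀)
        rw [show lift x₀ y₀ ≫ φ₃ = (x₀ ≫ i) * (y₀ ≫ i) by
          rw [Hom.mul_def, show φ₃ = (i ⊗ₘ i) ≫ μ from rfl, ← Category.assoc]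
          congr 1
          apply CartesianMonoidalCategory.hom_ext <;> simp] at this
        exact this
      · intro x hx
        obtain ⟨x₀, rfl⟩ := hpt x hx
        rw [show (x₀ ≫ i)⁻¹ = x₀ ≫ φ₂ from Category.assoc _ _ _]
        exact k₂ x₀
  obtain ⟨Z, e, he, h⟩ := RhoVan.repClosed_inter P Q (𝟙 S) hPQ hP
  refine ⟨e.ker, fun T g => ?_⟩
  rw [show g = g ≫ 𝟙 S from (Category.comp_id g).symm]
  refine Iff.trans ?_ (h T g)
  rw [Category.comp_id]
  constructor
  · rintro ⟨t, rfl⟩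
    exact ⟨t ≫ inv e.toImage, by rw [Category.assoc]; congr 1; rw [IsIso.inv_comp_eq]; exact e.toImage_imageι.symm⟩
  · rintro ⟨t, rfl⟩
    exact ⟨t ≫ e.toImage, by rw [Category.assoc, e.toImage_imageι]⟩

end Groth.Agent.DivExt
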